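import Cfsg.Agent.LieClassical.QuadCount
import Cfsg.Agent.LieClassical.OrthForms

/-!
# Fixed vectors of `p`-groups of isometries of the hyperbolic form (S4791 + S4927, POmega+, `V₀ ≠ 0`)

* `exists_fix` : if `p` does not divide `q ^ m - 1` (and not `q`), every `p`-group of isometries of `plusForm m F` fixes a
  vector `v` with `Q v = c`, for every `c ≠ 0`.
-/

set_option autoImplicit false

namespace Cfsg.Agent.H478.XD

open Cfsg Cfsg.Agent.LieClassical Cfsg.Agent.LieClassical.OrthForms Cfsg.Agent.LieClassical.OrthCore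

/-- the number of vectors of a given nonzero value -/
theorem card_value {F : Type*} [Field F] [Fintype F] {m : ℕ} (hm : 1 ≤ m) {c : F} (hc : c ≠ 0) :
    Nat.card {v : Fin m ⊕ Fin m → F // plusForm m F v = c} = Fintype.card F ^ (m - 1) * (Fintype.card F ^ m - 1) := by
  classical
  have h := QuadCount.card_plus (F := F) m c
  rw [if_neg hc, add_zero, ← coe_plusForm] at h
  obtain ⟨k, rfl⟩ : ∃ k, m = k + 1 := ⟨m - 1, by omega⟩
  have hq : 0 < Fintype.card F := Fintype.card_pos
  have hq1 : 1 ≤ Fintype.card F ^ (k + 1) := Nat.one_le_pow _ _ hq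
  refine Nat.eq_of_mul_eq_mul_left hq ?_
  rw [Nat.add_sub_cancel]
  have h2 : Fintype.card F * (Fintype.card F ^ k * (Fintype.card F ^ (k + 1) - 1)) + Fintype.card F ^ (k + 1) =
      Fintype.card F ^ (2 * (k + 1)) := by
    obtain ⟨j, hj⟩ : ∃ j, Fintype.card F ^ (k + 1) = j + 1 := ⟨Fintype.card F ^ (k + 1) - 1, by omega⟩
    have h3 : Fintype.card F ^ (2 * (k + 1)) = Fintype.card F ^ (k + 1) * Fintype.card F ^ (k + 1) := by ring
    have h4 : Fintype.card F * Fintype.card F ^ k = j + 1 := by rw [← hj]; ring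
    rw [h3, ← mul_assoc, h4, hj, Nat.add_sub_cancel]
    ring
  omega

/-- **fixed vectors** -/
theorem exists_fix {F : Type*} [Field F] [Fintype F] {m : ℕ} (hm : 1 ≤ m) {p : ℕ} [hp : Fact p.Prime]
    (hpF : ¬ p ∣ Fintype.card F) (hd : ¬ p ∣ Fintype.card F ^ m - 1)
    {P : Subgroup ((Fin m ⊕ Fin m → F) ≃ₗ[F] (Fin m ⊕ Fin m → F))} (hP : IsPGroup p P) (hPO : P ≤ O (plusForm m F))
    {c : F} (hc : c ≠ 0) : ∃ v, plusForm m F v = c ∧ ∀ g ∈ P, g v = v := by
  classical
  let act : MulAction P {v : Fin m ⊕ Fin m → F // plusForm m F v = c} :=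
    { smul := fun g v => ⟨g.1 v.1, (mem_O.1 (hPO g.2) v.1).trans v.2⟩
      one_smul := fun v => Subtype.ext rfl
      mul_smul := fun g h v => Subtype.ext rfl }
  have h1 : ¬ p ∣ Nat.card {v : Fin m ⊕ Fin m → F // plusForm m F v = c} := by
    rw [card_value hm hc]
    intro h
    rcases hp.out.dvd_mul.1 h with h | h
    · exact hpF (hp.out.dvd_of_dvd_pow h)
    · exact hd h
  obtain ⟨v, hv⟩ := hP.nonempty_fixed_point_of_prime_not_dvd_card _ h1
  exact ⟨v.1, v.2, fun g hg => congrArg Subtype.val (hv ⟨g, hg⟩)⟩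

end Cfsg.Agent.H478.XD
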